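import Groth.Statements.S19697
import Groth.Agent.Lib.Helper55.FinCov.Dbl2

set_option autoImplicit false
universe u
open CategoryTheory AlgebraicGeometry Opposite TensorProduct

namespace Groth.Agent.Lib.Helper55.FinCovDA

variable {X : Scheme.{u}} (L : X.Modules) (m : CohB1.tensorMod L L ⟶ Coh.structureModule X)

theorem tmul_add_left (U : X.Opens) (l₁ l₂ l' : (CohB1.toPMod L).obj (op U)) :
    SecTwist.tmul L L U (l₁ + l₂) l' = SecTwist.tmul L L U l₁ l' + SecTwist.tmul L L U l₂ l' :=
  (congrArg (fun t => ((SecTwist.toTensor L L).app (op U)).hom t)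
    (TensorProduct.add_tmul l₁ l₂ l')).trans
    (((SecTwist.toTensor L L).app (op U)).hom.map_add _ _)

theorem tmul_add_right (U : X.Opens) (l l₁ l₂ : (CohB1.toPMod L).obj (op U)) :
    SecTwist.tmul L L U l (l₁ + l₂) = SecTwist.tmul L L U l l₁ + SecTwist.tmul L L U l l₂ :=
  (congrArg (fun t => ((SecTwist.toTensor L L).app (op U)).hom t)
    (TensorProduct.tmul_add l l₁ l₂)).trans
    (((SecTwist.toTensor L L).app (op U)).hom.map_add _ _)

theorem tmul_smul_left (U : X.Opens)
    (r : (X.sheaf.obj ⋙ forget₂ CommRingCat RingCat).obj (op U))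
    (l l' : (CohB1.toPMod L).obj (op U)) :
    SecTwist.tmul L L U (r • l) l' =
      ((SecTwist.toTensor L L).app (op U)).hom (r • (l ⊗ₜ l')) :=
  congrArg (fun t => ((SecTwist.toTensor L L).app (op U)).hom t)
    (TensorProduct.smul_tmul' r l l').symm

theorem tmul_smul_right (U : X.Opens)
    (r : (X.sheaf.obj ⋙ forget₂ CommRingCat RingCat).obj (op U))
    (l l' : (CohB1.toPMod L).obj (op U)) :
    SecTwist.tmul L L U l (r • l') =
      ((SecTwist.toTensor L L).app (op U)).hom (r • (l ⊗ₜ l')) :=
  congrArg (fun t => ((SecTwist.toTensor L L).app (op U)).hom t)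
    (TensorProduct.tmul_smul r l l')

theorem toTensor_smul (U : X.Opens)
    (r : (X.sheaf.obj ⋙ forget₂ CommRingCat RingCat).obj (op U))
    (t : (CohB1.tensorPre L L).obj (op U)) :
    ((SecTwist.toTensor L L).app (op U)).hom (r • t) =
      r • ((SecTwist.toTensor L L).app (op U)).hom t :=
  ((SecTwist.toTensor L L).app (op U)).hom.map_smul r t

/-- the pairing on sections -/
noncomputable def muF (U : X.Opens) (l l' : Γ(L, U)) : Γ(X, U) :=
  (m.val.app (op U)).hom (SecTwist.tmul L L U l l')

theorem muF_add_left (U : X.Opens) (l₁ l₂ l' : Γ(L, U)) :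
    muF L m U (l₁ + l₂) l' = muF L m U l₁ l' + muF L m U l₂ l' :=
  (congrArg (fun t => (m.val.app (op U)).hom t) (tmul_add_left L U l₁ l₂ l')).trans
    ((m.val.app (op U)).hom.map_add _ _)

theorem muF_add_right (U : X.Opens) (l l₁ l₂ : Γ(L, U)) :
    muF L m U l (l₁ + l₂) = muF L m U l l₁ + muF L m U l l₂ :=
  (congrArg (fun t => (m.val.app (op U)).hom t) (tmul_add_right L U l l₁ l₂)).trans
    ((m.val.app (op U)).hom.map_add _ _)

theorem muF_smul_left (U : X.Opens) (r : Γ(X, U)) (l l' : Γ(L, U)) :
    muF L m U (r • l) l' = r * muF L m U l l' :=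
  (congrArg (fun t => (m.val.app (op U)).hom t)
    ((tmul_smul_left L U r l l').trans (toTensor_smul L U r _))).trans
    ((m.val.app (op U)).hom.map_smul r _)

theorem muF_smul_right (U : X.Opens) (r : Γ(X, U)) (l l' : Γ(L, U)) :
    muF L m U l (r • l') = r * muF L m U l l' :=
  (congrArg (fun t => (m.val.app (op U)).hom t)
    ((tmul_smul_right L U r l l').trans (toTensor_smul L U r _))).trans
    ((m.val.app (op U)).hom.map_smul r _)

theorem muF_res {U V : X.Opens} (i : V ⟶ U) (l l' : Γ(L, U)) :
    X.presheaf.map i.op (muF L m U l l') =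
      muF L m V (L.presheaf.map i.op l) (L.presheaf.map i.op l') := by
  have h1 := (PresheafOfModules.naturality_apply m.val i.op (SecTwist.tmul L L U l l')).symm
  exact h1.trans (congrArg (fun t => (m.val.app (op V)).hom t) (SecTwist.map_tmul L L i l l'))

theorem muF_zero_left (U : X.Opens) (l' : Γ(L, U)) : muF L m U 0 l' = 0 := by
  have := muF_smul_left L m U 0 0 l'
  rw [zero_smul, zero_mul] at this
  exact this

theorem muF_zero_right (U : X.Opens) (l : Γ(L, U)) : muF L m U l 0 = 0 := by
  have := muF_smul_right L m U 0 l 0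
  rw [zero_smul, zero_mul] at this
  exact this

end Groth.Agent.Lib.Helper55.FinCovDA
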