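import Groth.Statements.S19697
import Groth.Agent.Lib.Helper55.FinCovDA.E1

set_option autoImplicit false
universe u
open CategoryTheory AlgebraicGeometry Opposite TensorProduct
open Groth.Agent.Lib.Helper55.FinCovDbl

namespace Groth.Agent.Lib.Helper55.FinCovDA

variable {X : Scheme.{u}} (L : X.Modules) (m : CohB1.tensorMod L L ⟶ Coh.structureModule X)

theorem muF_comm_local (V : X.Opens) (e : Γ(L, V))
    (he : Function.Bijective (fun r : Γ(X, V) => r • e)) (l l' : Γ(L, V)) :
    muF L m V l l' = muF L m V l' l := by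
  obtain ⟨a, ha⟩ := he.2 l
  obtain ⟨a', ha'⟩ := he.2 l'
  simp only at ha ha'
  rw [← ha, ← ha', muF_smul_left, muF_smul_right, muF_smul_left, muF_smul_right]
  ring

theorem muF_assoc_local (V : X.Opens) (e : Γ(L, V))
    (he : Function.Bijective (fun r : Γ(X, V) => r • e)) (l l' l'' : Γ(L, V)) :
    muF L m V l l' • l'' = muF L m V l' l'' • l := by
  obtain ⟨a, ha⟩ := he.2 l
  obtain ⟨a', ha'⟩ := he.2 l'
  obtain ⟨a'', ha''⟩ := he.2 l''
  simp only at ha ha' ha''
  rw [← ha, ← ha', ← ha'', muF_smul_left, muF_smul_right, muF_smul_left, muF_smul_right,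
    smul_smul, smul_smul]
  congr 1
  ring

set_option maxHeartbeats 1000000 in
theorem muF_comm (hL : PicF.IsInvertible L) (U : X.Opens) (l l' : Γ(L, U)) :
    muF L m U l l' = muF L m U l' l := by
  choose V hVaff hxV hVU e he using fun x : U => exists_local_gen L hL U x.1 x.2
  have hcover : U ≤ iSup V := by
    intro x hx
    exact TopologicalSpace.Opens.mem_iSup.2 ⟨⟨x, hx⟩, hxV ⟨x, hx⟩⟩
  refine X.sheaf.eq_of_locally_eq' V U (fun x => homOfLE (hVU x)) hcover _ _ ?_
  intro x
  have h1 := muF_res L m (homOfLE (hVU x)) l l'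
  have h2 := muF_res L m (homOfLE (hVU x)) l' l
  exact h1.trans ((muF_comm_local L m (V x) (e x) (he x) _ _).trans h2.symm)

set_option maxHeartbeats 1000000 in
theorem muF_assoc (hL : PicF.IsInvertible L) (U : X.Opens) (l l' l'' : Γ(L, U)) :
    muF L m U l l' • l'' = muF L m U l' l'' • l := by
  choose V hVaff hxV hVU e he using fun x : U => exists_local_gen L hL U x.1 x.2
  have hcover : U ≤ iSup V := by
    intro x hx
    exact TopologicalSpace.Opens.mem_iSup.2 ⟨⟨x, hx⟩, hxV ⟨x, hx⟩⟩
  let F : TopCat.Sheaf Ab X := ⟨L.presheaf, L.isSheaf⟩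
  refine F.eq_of_locally_eq' V U (fun x => homOfLE (hVU x)) hcover _ _ ?_
  intro x
  show L.presheaf.map (homOfLE (hVU x)).op (muF L m U l l' • l'') =
    L.presheaf.map (homOfLE (hVU x)).op (muF L m U l' l'' • l)
  rw [Scheme.Modules.map_smul, Scheme.Modules.map_smul, muF_res, muF_res]
  exact muF_assoc_local L m (V x) (e x) (he x) _ _ _

end Groth.Agent.Lib.Helper55.FinCovDA
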