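import Groth.Statements.S19697
import Groth.Agent.Lib.Helper55.FinCovDA.E2

set_option autoImplicit false
universe u
open CategoryTheory AlgebraicGeometry Opposite TensorProduct

namespace Groth.Agent.Lib.Helper55.FinCovDA

variable {X : Scheme.{u}} (L : X.Modules) (m : CohB1.tensorMod L L ⟶ Coh.structureModule X)
  (hL : PicF.IsInvertible L)

/-- sections of the double algebra `O ⊕ L` over `U` -/
def DA (_hL : PicF.IsInvertible L) (_m : CohB1.tensorMod L L ⟶ Coh.structureModule X)
    (U : X.Opens) : Type u := Γ(X, U) × Γ(L, U)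

variable (U : X.Opens)

noncomputable instance : AddCommGroup (DA L hL m U) :=
  inferInstanceAs (AddCommGroup (Γ(X, U) × Γ(L, U)))

/-- constructor -/
def DA.mk (s : Γ(X, U)) (l : Γ(L, U)) : DA L hL m U := (s, l)

variable {L m hL U}

/-- first component -/
def DA.s (x : DA L hL m U) : Γ(X, U) := x.1
/-- second component -/
def DA.l (x : DA L hL m U) : Γ(L, U) := x.2

@[ext] theorem DA.ext {x y : DA L hL m U} (h1 : x.s = y.s) (h2 : x.l = y.l) : x = y :=
  Prod.ext h1 h2

@[simp] theorem DA.mk_s (s : Γ(X, U)) (l : Γ(L, U)) : (DA.mk L m hL U s l).s = s := rfl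
@[simp] theorem DA.mk_l (s : Γ(X, U)) (l : Γ(L, U)) : (DA.mk L m hL U s l).l = l := rfl
@[simp] theorem DA.add_s (x y : DA L hL m U) : (x + y).s = x.s + y.s := rfl
@[simp] theorem DA.add_l (x y : DA L hL m U) : (x + y).l = x.l + y.l := rfl
@[simp] theorem DA.zero_s : (0 : DA L hL m U).s = 0 := rfl
@[simp] theorem DA.zero_l : (0 : DA L hL m U).l = 0 := rfl
@[simp] theorem DA.neg_s (x : DA L hL m U) : (-x).s = -x.s := rfl
@[simp] theorem DA.neg_l (x : DA L hL m U) : (-x).l = -x.l := rfl

noncomputable instance : Mul (DA L hL m U) :=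
  ⟨fun x y => DA.mk L m hL U (x.s * y.s + muF L m U x.l y.l) (x.s • y.l + y.s • x.l)⟩

noncomputable instance : One (DA L hL m U) := ⟨DA.mk L m hL U 1 0⟩

@[simp] theorem DA.mul_s (x y : DA L hL m U) : (x * y).s = x.s * y.s + muF L m U x.l y.l := rfl
@[simp] theorem DA.mul_l (x y : DA L hL m U) : (x * y).l = x.s • y.l + y.s • x.l := rfl
@[simp] theorem DA.one_s : (1 : DA L hL m U).s = 1 := rfl
@[simp] theorem DA.one_l : (1 : DA L hL m U).l = 0 := rfl

theorem DA.mul_comm' (x y : DA L hL m U) : x * y = y * x := by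
  ext
  · simp only [DA.mul_s]
    rw [muF_comm L m hL U x.l y.l, mul_comm]
  · simp only [DA.mul_l]
    rw [add_comm]

theorem DA.mul_assoc' (x y z : DA L hL m U) : x * y * z = x * (y * z) := by
  ext
  · simp only [DA.mul_s, DA.mul_l, muF_add_left, muF_add_right, muF_smul_left, muF_smul_right]
    ring
  · simp only [DA.mul_s, DA.mul_l]
    have hA := muF_assoc L m hL U x.l y.l z.l
    simp only [add_smul, smul_add, smul_smul]
    rw [hA]
    have e1 : (z.s * x.s) • y.l = (x.s * z.s) • y.l := by rw [mul_comm]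
    have e2 : (z.s * y.s) • x.l = (y.s * z.s) • x.l := by rw [mul_comm]
    rw [e1, e2]
    abel

theorem DA.one_mul' (x : DA L hL m U) : 1 * x = x := by
  ext
  · simp only [DA.mul_s, DA.one_s, DA.one_l, one_mul, muF_zero_left, add_zero]
  · simp only [DA.mul_l, DA.one_s, DA.one_l, one_smul, smul_zero, add_zero]

theorem DA.left_distrib' (x y z : DA L hL m U) : x * (y + z) = x * y + x * z := by
  ext
  · simp only [DA.mul_s, DA.add_s, DA.add_l, muF_add_right]
    ring
  · simp only [DA.mul_l, DA.add_s, DA.add_l, smul_add, add_smul]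
    abel

theorem DA.zero_mul' (x : DA L hL m U) : 0 * x = 0 := by
  ext
  · simp only [DA.mul_s, DA.zero_s, DA.zero_l, zero_mul, muF_zero_left, add_zero]
  · simp only [DA.mul_l, DA.zero_s, DA.zero_l, zero_smul, smul_zero, add_zero]

noncomputable instance instCommRing : CommRing (DA L hL m U) :=
  { (inferInstance : AddCommGroup (DA L hL m U)) with
    mul := (· * ·)
    one := 1
    mul_assoc := DA.mul_assoc'
    one_mul := DA.one_mul'
    mul_one := fun x => by rw [DA.mul_comm', DA.one_mul']
    left_distrib := DA.left_distrib'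
    right_distrib := fun x y z => by
      rw [DA.mul_comm', DA.left_distrib', DA.mul_comm' z x, DA.mul_comm' z y]
    mul_comm := DA.mul_comm'
    zero_mul := DA.zero_mul'
    mul_zero := fun x => by rw [DA.mul_comm', DA.zero_mul'] }

end Groth.Agent.Lib.Helper55.FinCovDA
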