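import Groth.Statements.S19697
import Groth.Agent.Lib.Helper55.FinCovDA.E3

set_option autoImplicit false
universe u
open CategoryTheory AlgebraicGeometry Opposite TensorProduct

namespace Groth.Agent.Lib.Helper55.FinCovDA

variable {X : Scheme.{u}} (L : X.Modules) (m : CohB1.tensorMod L L ⟶ Coh.structureModule X)
  (hL : PicF.IsInvertible L)

/-- restriction on the double algebra -/
noncomputable def resDA {U V : X.Opens} (i : V ⟶ U) : DA L hL m U →+* DA L hL m V where
  toFun x := DA.mk L m hL V (X.presheaf.map i.op x.s) (L.presheaf.map i.op x.l)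
  map_one' := by
    ext
    · simp only [DA.mk_s, DA.one_s, map_one]
    · simp only [DA.mk_l, DA.one_l, map_zero]
  map_mul' x y := by
    ext
    · simp only [DA.mk_s, DA.mk_l, DA.mul_s]
      rw [map_add, map_mul, muF_res]
    · simp only [DA.mk_s, DA.mk_l, DA.mul_l]
      rw [map_add, Scheme.Modules.map_smul, Scheme.Modules.map_smul]
  map_zero' := by
    ext
    · simp only [DA.mk_s, DA.zero_s, map_zero]
    · simp only [DA.mk_l, DA.zero_l, map_zero]
  map_add' x y := by
    ext
    · simp only [DA.mk_s, DA.add_s, map_add]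
    · simp only [DA.mk_l, DA.add_l, map_add]

@[simp] theorem resDA_s {U V : X.Opens} (i : V ⟶ U) (x : DA L hL m U) :
    (resDA L m hL i x).s = X.presheaf.map i.op x.s := rfl
@[simp] theorem resDA_l {U V : X.Opens} (i : V ⟶ U) (x : DA L hL m U) :
    (resDA L m hL i x).l = L.presheaf.map i.op x.l := rfl

/-- the presheaf of rings `O ⊕ L` -/
noncomputable def Apre : TopCat.Presheaf CommRingCat.{u} X.carrier where
  obj U := CommRingCat.of (DA L hL m U.unop)
  map {U V} f := CommRingCat.ofHom (resDA L m hL f.unop)
  map_id U := by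
    refine CommRingCat.hom_ext (RingHom.ext fun x => DA.ext (L := L) (m := m) (hL := hL) ?_ ?_)
    · exact ConcreteCategory.congr_hom (X.presheaf.map_id U) x.s
    · exact ConcreteCategory.congr_hom (L.presheaf.map_id U) x.l
  map_comp {U V W} f g := by
    refine CommRingCat.hom_ext (RingHom.ext fun x => DA.ext (L := L) (m := m) (hL := hL) ?_ ?_)
    · exact ConcreteCategory.congr_hom (X.presheaf.map_comp f g) x.s
    · exact ConcreteCategory.congr_hom (L.presheaf.map_comp f g) x.l

/-- the structure map on sections -/
noncomputable def strDA (U : X.Opens) : Γ(X, U) →+* DA L hL m U where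
  toFun s := DA.mk L m hL U s 0
  map_one' := rfl
  map_mul' s t := by
    ext
    · simp only [DA.mk_s, DA.mk_l, DA.mul_s, muF_zero_left, add_zero]
    · simp only [DA.mk_s, DA.mk_l, DA.mul_l, smul_zero, add_zero]
  map_zero' := rfl
  map_add' s t := by
    ext
    · simp only [DA.mk_s, DA.add_s]
    · simp only [DA.mk_l, DA.add_l, add_zero]

/-- the structure map -/
noncomputable def strNat : X.presheaf ⟶ Apre L m hL where
  app U := CommRingCat.ofHom (strDA L m hL U.unop)
  naturality U V f := by
    refine CommRingCat.hom_ext (RingHom.ext fun s => DA.ext (L := L) (m := m) (hL := hL) ?_ ?_)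
    · rfl
    · exact (map_zero (L.presheaf.map f).hom).symm

end Groth.Agent.Lib.Helper55.FinCovDA
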