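import Groth.Statements.S19697
import Groth.Agent.Lib.Helper55.FinCovDA.E4

set_option autoImplicit false
universe u
open CategoryTheory AlgebraicGeometry Opposite TensorProduct

namespace Groth.Agent.Lib.Helper55.FinCovDA

variable {X : Scheme.{u}} (L : X.Modules) (m : CohB1.tensorMod L L ⟶ Coh.structureModule X)
  (hL : PicF.IsInvertible L)

set_option maxHeartbeats 1000000 in
theorem Apre_isSheaf : (Apre L m hL).IsSheaf := by
  rw [TopCat.Presheaf.isSheaf_iff_isSheafUniqueGluing]
  intro ι U sf hsf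
  let sf' : ∀ i, DA L hL m (U i) := sf
  have h1 : TopCat.Presheaf.IsCompatible X.presheaf U (fun i => (sf' i).s) :=
    fun i j => congrArg (DA.s (L := L) (m := m) (hL := hL)) (hsf i j)
  have h2 : TopCat.Presheaf.IsCompatible L.presheaf U (fun i => (sf' i).l) :=
    fun i j => congrArg (DA.l (L := L) (m := m) (hL := hL)) (hsf i j)
  obtain ⟨s, hs, hs'⟩ := X.sheaf.existsUnique_gluing U _ h1
  obtain ⟨l, hl, hl'⟩ := TopCat.Sheaf.existsUnique_gluing (⟨L.presheaf, L.isSheaf⟩ : TopCat.Sheaf Ab X) U _ h2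
  refine ⟨DA.mk L m hL _ s l, fun i => DA.ext (L := L) (m := m) (hL := hL) (hs i) (hl i), ?_⟩
  intro y hy
  let y' : DA L hL m (iSup U) := y
  refine DA.ext (L := L) (m := m) (hL := hL) (x := y') ?_ ?_
  · exact hs' y'.s fun i => congrArg (DA.s (L := L) (m := m) (hL := hL)) (hy i)
  · exact hl' y'.l fun i => congrArg (DA.l (L := L) (m := m) (hL := hL)) (hy i)

end Groth.Agent.Lib.Helper55.FinCovDA
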