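import Groth.Statements.S19697
import Groth.Agent.Lib.Helper55.FinCovDA.E5
import Groth.Agent.Lib.Helper61.QCohSections
import Groth.Agent.Lib.QCoh.Invertible

set_option autoImplicit false
universe u
open CategoryTheory AlgebraicGeometry Opposite TensorProduct

namespace Groth.Agent.Lib.Helper55.FinCovDA

variable {X : Scheme.{u}} (L : X.Modules) (m : CohB1.tensorMod L L ⟶ Coh.structureModule X)
  (hL : PicF.IsInvertible L)

theorem strDA_mul (U : X.Opens) (t : Γ(X, U)) (x : DA L hL m U) :
    strDA L m hL U t * x = DA.mk L m hL U (t * x.s) (t • x.l) := by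
  ext
  · show t * x.s + muF L m U 0 x.l = t * x.s
    rw [muF_zero_left, add_zero]
  · show t • x.l + x.s • (0 : Γ(L, U)) = t • x.l
    rw [smul_zero, add_zero]

theorem resDA_strDA {U V : X.Opens} (i : V ⟶ U) (t : Γ(X, U)) :
    resDA L m hL i (strDA L m hL U t) = strDA L m hL V (X.presheaf.map i.op t) := by
  ext
  · rfl
  · exact map_zero (L.presheaf.map i.op).hom

set_option maxHeartbeats 2000000 in
theorem isLoc_aux (U : X.Opens) (hU : IsAffineOpen U) (r : Γ(X, U)) :
    @IsLocalization.Away (DA L hL m U) _ (strDA L m hL U r) (DA L hL m (X.basicOpen r)) _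
      (resDA L m hL (homOfLE (X.basicOpen_le r))).toAlgebra := by
  let algDA : Algebra (DA L hL m U) (DA L hL m (X.basicOpen r)) :=
    (resDA L m hL (homOfLE (X.basicOpen_le r))).toAlgebra
  have : L.IsQuasicoherent := Groth.Agent.Lib.QCoh.isQuasicoherent_of_isInvertible hL
  let algO : Algebra Γ(X, U) Γ(X, X.basicOpen r) :=
    (X.presheaf.map (homOfLE (X.basicOpen_le r)).op).hom.toAlgebra
  have F1 : IsLocalization.Away r Γ(X, X.basicOpen r) := hU.isLocalization_basicOpen r
  let modL := Groth.Agent.Lib.Helper61.QCohSections.resModule L (X.basicOpen_le r)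
  have F2 := Groth.Agent.Lib.Helper61.QCohSections.isLocalizedModule_res_basicOpen L hU r
  have hunit : IsUnit (X.presheaf.map (homOfLE (X.basicOpen_le r)).op r) :=
    RingedSpace.isUnit_res_basicOpen _ r
  refine (isLocalization_iff _ _).2 ⟨?_, ?_, ?_⟩
  · rintro ⟨y, n, rfl⟩
    show IsUnit (resDA L m hL (homOfLE (X.basicOpen_le r)) ((strDA L m hL U r) ^ n))
    rw [map_pow, resDA_strDA]
    exact (hunit.map (strDA L m hL _)).pow n
  · intro z
    obtain ⟨⟨s₀, ⟨_, n, rfl⟩⟩, hs⟩ := IsLocalization.surj (Submonoid.powers r) (z.s)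
    obtain ⟨⟨l₀, ⟨_, k, rfl⟩⟩, hl⟩ := IsLocalizedModule.surj (Submonoid.powers r)
      (Groth.Agent.Lib.Helper61.QCohSections.resLinear L (X.basicOpen_le r)) z.l
    have hs' : z.s * X.presheaf.map (homOfLE (X.basicOpen_le r)).op (r ^ n) =
        X.presheaf.map (homOfLE (X.basicOpen_le r)).op s₀ := hs
    have hl' : X.presheaf.map (homOfLE (X.basicOpen_le r)).op (r ^ k) • z.l =
        L.presheaf.map (homOfLE (X.basicOpen_le r)).op l₀ := hl
    refine ⟨(DA.mk L m hL U (r ^ k * s₀) (r ^ n • l₀),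
      ⟨(strDA L m hL U r) ^ (n + k), n + k, rfl⟩), ?_⟩
    show z * resDA L m hL (homOfLE (X.basicOpen_le r)) ((strDA L m hL U r) ^ (n + k)) =
      resDA L m hL (homOfLE (X.basicOpen_le r)) (DA.mk L m hL U (r ^ k * s₀) (r ^ n • l₀))
    rw [← map_pow (strDA L m hL U) r, resDA_strDA, mul_comm, strDA_mul]
    ext
    · show X.presheaf.map (homOfLE (X.basicOpen_le r)).op (r ^ (n + k)) * z.s =
        X.presheaf.map (homOfLE (X.basicOpen_le r)).op (r ^ k * s₀)
      rw [map_mul, ← hs', pow_add, map_mul]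
      ring
    · show X.presheaf.map (homOfLE (X.basicOpen_le r)).op (r ^ (n + k)) • z.l =
        L.presheaf.map (homOfLE (X.basicOpen_le r)).op (r ^ n • l₀)
      rw [Scheme.Modules.map_smul, ← hl', smul_smul, pow_add, map_mul]
  · intro x y hxy
    have hxy' : resDA L m hL (homOfLE (X.basicOpen_le r)) x =
        resDA L m hL (homOfLE (X.basicOpen_le r)) y := hxy
    have h1 : X.presheaf.map (homOfLE (X.basicOpen_le r)).op x.s =
        X.presheaf.map (homOfLE (X.basicOpen_le r)).op y.s :=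
      congrArg (DA.s (L := L) (m := m) (hL := hL)) hxy'
    have h2 : L.presheaf.map (homOfLE (X.basicOpen_le r)).op x.l =
        L.presheaf.map (homOfLE (X.basicOpen_le r)).op y.l :=
      congrArg (DA.l (L := L) (m := m) (hL := hL)) hxy'
    obtain ⟨⟨_, n, rfl⟩, hn⟩ := IsLocalization.exists_of_eq (M := Submonoid.powers r) h1
    obtain ⟨⟨_, k, rfl⟩, hk⟩ := IsLocalizedModule.exists_of_eq (S := Submonoid.powers r)
      (f := Groth.Agent.Lib.Helper61.QCohSections.resLinear L (X.basicOpen_le r)) h2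
    have hn' : r ^ n * x.s = r ^ n * y.s := hn
    have hk' : r ^ k • x.l = r ^ k • y.l := hk
    refine ⟨⟨(strDA L m hL U r) ^ (n + k), n + k, rfl⟩, ?_⟩
    show (strDA L m hL U r) ^ (n + k) * x = (strDA L m hL U r) ^ (n + k) * y
    rw [← map_pow (strDA L m hL U) r, strDA_mul, strDA_mul]
    ext
    · show r ^ (n + k) * x.s = r ^ (n + k) * y.s
      rw [pow_add, mul_comm (r ^ n), mul_assoc, hn', mul_assoc]
    · show r ^ (n + k) • x.l = r ^ (n + k) • y.l
      rw [pow_add, mul_smul, hk', mul_smul]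

theorem Apre_isQC : RelSpec.IsQC (Apre L m hL) (strNat L m hL) := by
  intro U hU r
  exact isLoc_aux L m hL U hU r

end Groth.Agent.Lib.Helper55.FinCovDA
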