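import Groth.Statements.S19697
import Groth.Agent.Lib.Helper55.FinCovDA.E6

set_option autoImplicit false
universe u
open CategoryTheory AlgebraicGeometry Opposite TensorProduct

namespace Groth.Agent.Lib.Helper55.FinCovDA

variable {X : Scheme.{u}} (L : X.Modules) (m : CohB1.tensorMod L L ⟶ Coh.structureModule X)
  (hL : PicF.IsInvertible L)

/-- the double algebra `O ⊕ L` as a quasi-coherent algebra -/
noncomputable def dblAlg : RelSpec.QCAlg X where
  presheaf := Apre L m hL
  isSheaf := Apre_isSheaf L m hL
  str := strNat L m hL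
  isQC := Apre_isQC L m hL

/-- the inclusion of `L` on sections -/
noncomputable def jAdd (U : X.Opens) : Γ(L, U) →+ DA L hL m U where
  toFun l := DA.mk L m hL U 0 l
  map_zero' := rfl
  map_add' l l' := by
    ext
    · simp only [DA.mk_s, DA.add_s, add_zero]
    · simp only [DA.mk_l, DA.add_l]

/-- the inclusion `L ⟶ O ⊕ L` -/
noncomputable def jDA : L ⟶ (dblAlg L m hL).toModule :=
  ⟨letI := (dblAlg L m hL).moduleSect
   PresheafOfModules.homMk
    { app := fun U => AddCommGrpCat.ofHom (jAdd L m hL U.unop)
      naturality := fun U V i => by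
        ext l
        refine DA.ext (L := L) (m := m) (hL := hL) ?_ ?_
        · exact (map_zero (X.presheaf.map i).hom).symm
        · rfl }
    (fun U r l => by
      refine DA.ext (L := L) (m := m) (hL := hL) ?_ ?_
      · exact ((congrArg (DA.s (L := L) (m := m) (hL := hL))
          (strDA_mul L m hL U.unop r (DA.mk L m hL U.unop 0 l))).trans (mul_zero r)).symm
      · exact (congrArg (DA.l (L := L) (m := m) (hL := hL))
          (strDA_mul L m hL U.unop r (DA.mk L m hL U.unop 0 l))).symm)⟩

theorem str_apply (U : X.Opens) (s : Γ(X, U)) :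
    ((dblAlg L m hL).str.app (op U)).hom s = DA.mk L m hL U s 0 := rfl

theorem j_apply (U : X.Opens) (l : L.val.obj (op U)) :
    FinCov.toSec (dblAlg L m hL) (((jDA L m hL).val.app (op U)).hom l) = DA.mk L m hL U 0 l := rfl

set_option maxHeartbeats 1000000 in
theorem isDblAlg : FinCov.IsDblAlg L m (dblAlg L m hL) (jDA L m hL) := by
  refine ⟨fun U => ?_, fun U l l' => ?_⟩
  · have hfun : ∀ p : Γ(X, U) × L.val.obj (op U),
        ((dblAlg L m hL).str.app (op U)).hom p.1 +
          FinCov.toSec (dblAlg L m hL) (((jDA L m hL).val.app (op U)).hom p.2) =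
        DA.mk L m hL U p.1 p.2 := by
      intro p
      rw [str_apply, j_apply]
      refine DA.ext (L := L) (m := m) (hL := hL) ?_ ?_
      · exact add_zero p.1
      · exact zero_add _
    constructor
    · intro p q hpq
      simp only at hpq
      rw [hfun p, hfun q] at hpq
      exact Prod.ext (congrArg (DA.s (L := L) (m := m) (hL := hL)) hpq)
        (congrArg (DA.l (L := L) (m := m) (hL := hL)) hpq)
    · intro a
      let a' : DA L hL m U := a
      refine ⟨(a'.s, a'.l), ?_⟩
      exact (hfun (a'.s, a'.l)).trans rfl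
  · show DA.mk L m hL U 0 l * DA.mk L m hL U 0 l' = DA.mk L m hL U (muF L m U l l') 0
    refine DA.ext (L := L) (m := m) (hL := hL) ?_ ?_
    · show (0 : Γ(X, U)) * 0 + muF L m U l l' = muF L m U l l'
      rw [zero_mul, zero_add]
    · let l₀ : Γ(L, U) := l
      let l₀' : Γ(L, U) := l'
      show (0 : Γ(X, U)) • l₀' + (0 : Γ(X, U)) • l₀ = 0
      rw [zero_smul, zero_smul, add_zero]

theorem main (hL' : PicF.IsInvertible L) :
    ∃ (A : RelSpec.QCAlg X) (j : L ⟶ A.toModule), FinCov.IsDblAlg L m A j :=
  ⟨dblAlg L m hL', jDA L m hL', isDblAlg L m hL'⟩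

end Groth.Agent.Lib.Helper55.FinCovDA
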